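import Mathlib
import Cfsg.Agent.D8E.Sound
import Cfsg.Agent.D8E.G.E2R0
import Cfsg.Agent.D8E.G.E2R1
import Cfsg.Agent.D8E.G.E2R2
import Cfsg.Agent.D8E.G.E2R3
import Cfsg.Agent.D8E.G.E2R4
import Cfsg.Agent.D8E.G.E2R5
import Cfsg.Agent.D8E.G.E2R6
import Cfsg.Agent.D8E.G.E2R7
import Cfsg.Agent.D8E.G.E2R8
import Cfsg.Agent.D8E.G.E2R9
import Cfsg.Agent.D8E.G.E2R10
import Cfsg.Agent.D8E.G.E2R11
import Cfsg.Agent.D8E.G.E2R12
import Cfsg.Agent.D8E.G.E2R13
import Cfsg.Agent.D8E.G.E2R14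
import Cfsg.Agent.D8E.G.E2R15
import Cfsg.Agent.D8E.G.E2R16
import Cfsg.Agent.D8E.G.E2R17
import Cfsg.Agent.D8E.G.E2R18

/-! Generated certificates. -/

set_option autoImplicit false
set_option maxRecDepth 1000000
set_option linter.style.longLine false
set_option Elab.async false

namespace Cfsg.Agent.D8E.E2

open Cfsg.Agent.D8E

universe u

theorem g20 : Good.{u} cE2 s20 := sound (List.forall_mem_nil _) r20
theorem g18 : Good.{u} cE2 s18 := sound (List.forall_mem_nil _) r18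
theorem g19 : Good.{u} cE2 s19 := sound (List.forall_mem_nil _) r19
theorem g87 : Good.{u} cE2 s87 := sound (List.forall_mem_cons.2 ⟨g20, (List.forall_mem_cons.2 ⟨g18, (List.forall_mem_cons.2 ⟨g19, (List.forall_mem_nil _)⟩)⟩)⟩) r87
theorem g88 : Good.{u} cE2 s88 := sound (List.forall_mem_nil _) r88
theorem g86 : Good.{u} cE2 s86 := sound (List.forall_mem_nil _) r86
theorem g89 : Good.{u} cE2 s89 := sound (List.forall_mem_cons.2 ⟨g87, (List.forall_mem_cons.2 ⟨g88, (List.forall_mem_cons.2 ⟨g86, (List.forall_mem_nil _)⟩)⟩)⟩) r89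
theorem g84 : Good.{u} cE2 s84 := sound (List.forall_mem_nil _) r84
theorem g83 : Good.{u} cE2 s83 := sound (List.forall_mem_nil _) r83
theorem g82 : Good.{u} cE2 s82 := sound (List.forall_mem_nil _) r82
theorem g85 : Good.{u} cE2 s85 := sound (List.forall_mem_cons.2 ⟨g84, (List.forall_mem_cons.2 ⟨g83, (List.forall_mem_cons.2 ⟨g82, (List.forall_mem_nil _)⟩)⟩)⟩) r85
theorem g76 : Good.{u} cE2 s76 := sound (List.forall_mem_nil _) r76
theorem g63 : Good.{u} cE2 s63 := sound (List.forall_mem_nil _) r63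
theorem g62 : Good.{u} cE2 s62 := sound (List.forall_mem_nil _) r62
theorem g77 : Good.{u} cE2 s77 := sound (List.forall_mem_nil _) r77
theorem g70 : Good.{u} cE2 s70 := sound (List.forall_mem_nil _) r70
theorem g69 : Good.{u} cE2 s69 := sound (List.forall_mem_nil _) r69
theorem g68 : Good.{u} cE2 s68 := sound (List.forall_mem_nil _) r68
theorem g71 : Good.{u} cE2 s71 := sound (List.forall_mem_nil _) r71
theorem g64 : Good.{u} cE2 s64 := sound (List.forall_mem_nil _) r64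
theorem g65 : Good.{u} cE2 s65 := sound (List.forall_mem_nil _) r65
theorem g74 : Good.{u} cE2 s74 := sound (List.forall_mem_nil _) r74
theorem g75 : Good.{u} cE2 s75 := sound (List.forall_mem_nil _) r75
theorem g66 : Good.{u} cE2 s66 := sound (List.forall_mem_nil _) r66
theorem g67 : Good.{u} cE2 s67 := sound (List.forall_mem_nil _) r67
theorem g72 : Good.{u} cE2 s72 := sound (List.forall_mem_nil _) r72
theorem g73 : Good.{u} cE2 s73 := sound (List.forall_mem_nil _) r73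
theorem g17 : Good.{u} cE2 s17 := sound (List.forall_mem_nil _) r17
theorem g16 : Good.{u} cE2 s16 := sound (List.forall_mem_nil _) r16
theorem g15 : Good.{u} cE2 s15 := sound (List.forall_mem_nil _) r15
theorem g14 : Good.{u} cE2 s14 := sound (List.forall_mem_nil _) r14
theorem g13 : Good.{u} cE2 s13 := sound (List.forall_mem_nil _) r13
theorem g12 : Good.{u} cE2 s12 := sound (List.forall_mem_nil _) r12
theorem g11 : Good.{u} cE2 s11 := sound (List.forall_mem_nil _) r11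
theorem g10 : Good.{u} cE2 s10 := sound (List.forall_mem_nil _) r10
theorem g78 : Good.{u} cE2 s78 := sound (List.forall_mem_cons.2 ⟨g76, (List.forall_mem_cons.2 ⟨g63, (List.forall_mem_cons.2 ⟨g62, (List.forall_mem_cons.2 ⟨g77, (List.forall_mem_cons.2 ⟨g70, (List.forall_mem_cons.2 ⟨g69, (List.forall_mem_cons.2 ⟨g68, (List.forall_mem_cons.2 ⟨g71, (List.forall_mem_cons.2 ⟨g64, (List.forall_mem_cons.2 ⟨g65, (List.forall_mem_cons.2 ⟨g74, (List.forall_mem_cons.2 ⟨g75, (List.forall_mem_cons.2 ⟨g66, (List.forall_mem_cons.2 ⟨g67, (List.forall_mem_cons.2 ⟨g72, (List.forall_mem_cons.2 ⟨g73, (List.forall_mem_cons.2 ⟨g17, (List.forall_mem_cons.2 ⟨g16, (List.forall_mem_cons.2 ⟨g15, (List.forall_mem_cons.2 ⟨g14, (List.forall_mem_cons.2 ⟨g13, (List.forall_mem_cons.2 ⟨g12, (List.forall_mem_cons.2 ⟨g11, (List.forall_mem_cons.2 ⟨g10, (List.forall_mem_nil _)⟩)⟩)⟩)⟩)⟩)⟩)⟩)⟩)⟩)⟩)⟩)⟩)⟩)⟩)⟩)⟩)⟩)⟩)⟩)⟩)⟩)⟩)⟩)⟩) r78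
theorem g79 : Good.{u} cE2 s79 := sound (List.forall_mem_cons.2 ⟨g78, (List.forall_mem_nil _)⟩) r79
theorem g80 : Good.{u} cE2 s80 := sound (List.forall_mem_nil _) r80
theorem g81 : Good.{u} cE2 s81 := sound (List.forall_mem_cons.2 ⟨g79, (List.forall_mem_cons.2 ⟨g80, (List.forall_mem_nil _)⟩)⟩) r81
theorem g33 : Good.{u} cE2 s33 := sound (List.forall_mem_nil _) r33
theorem g38 : Good.{u} cE2 s38 := sound (List.forall_mem_nil _) r38
theorem g34 : Good.{u} cE2 s34 := sound (List.forall_mem_nil _) r34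
theorem g37 : Good.{u} cE2 s37 := sound (List.forall_mem_nil _) r37
theorem g43 : Good.{u} cE2 s43 := sound (List.forall_mem_nil _) r43
theorem g35 : Good.{u} cE2 s35 := sound (List.forall_mem_nil _) r35
theorem g42 : Good.{u} cE2 s42 := sound (List.forall_mem_nil _) r42
theorem g36 : Good.{u} cE2 s36 := sound (List.forall_mem_nil _) r36
theorem g47 : Good.{u} cE2 s47 := sound (List.forall_mem_nil _) r47
theorem g32 : Good.{u} cE2 s32 := sound (List.forall_mem_nil _) r32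
theorem g48 : Good.{u} cE2 s48 := sound (List.forall_mem_nil _) r48
theorem g49 : Good.{u} cE2 s49 := sound (List.forall_mem_nil _) r49
theorem g40 : Good.{u} cE2 s40 := sound (List.forall_mem_nil _) r40
theorem g28 : Good.{u} cE2 s28 := sound (List.forall_mem_nil _) r28
theorem g41 : Good.{u} cE2 s41 := sound (List.forall_mem_nil _) r41
theorem g39 : Good.{u} cE2 s39 := sound (List.forall_mem_nil _) r39
theorem g30 : Good.{u} cE2 s30 := sound (List.forall_mem_nil _) r30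
theorem g9 : Good.{u} cE2 s9 := sound (List.forall_mem_nil _) r9
theorem g29 : Good.{u} cE2 s29 := sound (List.forall_mem_nil _) r29
theorem g8 : Good.{u} cE2 s8 := sound (List.forall_mem_nil _) r8
theorem g25 : Good.{u} cE2 s25 := sound (List.forall_mem_nil _) r25
theorem g24 : Good.{u} cE2 s24 := sound (List.forall_mem_nil _) r24
theorem g31 : Good.{u} cE2 s31 := sound (List.forall_mem_nil _) r31
theorem g7 : Good.{u} cE2 s7 := sound (List.forall_mem_nil _) r7
theorem g22 : Good.{u} cE2 s22 := sound (List.forall_mem_nil _) r22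
theorem g6 : Good.{u} cE2 s6 := sound (List.forall_mem_cons.2 ⟨g22, (List.forall_mem_nil _)⟩) r6
theorem g5 : Good.{u} cE2 s5 := sound (List.forall_mem_nil _) r5
theorem g23 : Good.{u} cE2 s23 := sound (List.forall_mem_nil _) r23
theorem g51 : Good.{u} cE2 s51 := sound (List.forall_mem_nil _) r51
theorem g45 : Good.{u} cE2 s45 := sound (List.forall_mem_nil _) r45
theorem g50 : Good.{u} cE2 s50 := sound (List.forall_mem_nil _) r50
theorem g44 : Good.{u} cE2 s44 := sound (List.forall_mem_nil _) r44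
theorem g55 : Good.{u} cE2 s55 := sound (List.forall_mem_nil _) r55
theorem g54 : Good.{u} cE2 s54 := sound (List.forall_mem_nil _) r54
theorem g57 : Good.{u} cE2 s57 := sound (List.forall_mem_nil _) r57
theorem g56 : Good.{u} cE2 s56 := sound (List.forall_mem_nil _) r56
theorem g27 : Good.{u} cE2 s27 := sound (List.forall_mem_nil _) r27
theorem g53 : Good.{u} cE2 s53 := sound (List.forall_mem_nil _) r53
theorem g46 : Good.{u} cE2 s46 := sound (List.forall_mem_nil _) r46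
theorem g52 : Good.{u} cE2 s52 := sound (List.forall_mem_nil _) r52
theorem g26 : Good.{u} cE2 s26 := sound (List.forall_mem_nil _) r26
theorem g58 : Good.{u} cE2 s58 := sound (List.forall_mem_cons.2 ⟨g33, (List.forall_mem_cons.2 ⟨g38, (List.forall_mem_cons.2 ⟨g34, (List.forall_mem_cons.2 ⟨g37, (List.forall_mem_cons.2 ⟨g43, (List.forall_mem_cons.2 ⟨g35, (List.forall_mem_cons.2 ⟨g42, (List.forall_mem_cons.2 ⟨g36, (List.forall_mem_cons.2 ⟨g47, (List.forall_mem_cons.2 ⟨g32, (List.forall_mem_cons.2 ⟨g48, (List.forall_mem_cons.2 ⟨g49, (List.forall_mem_cons.2 ⟨g40, (List.forall_mem_cons.2 ⟨g28, (List.forall_mem_cons.2 ⟨g41, (List.forall_mem_cons.2 ⟨g39, (List.forall_mem_cons.2 ⟨g30, (List.forall_mem_cons.2 ⟨g9, (List.forall_mem_cons.2 ⟨g29, (List.forall_mem_cons.2 ⟨g8, (List.forall_mem_cons.2 ⟨g25, (List.forall_mem_cons.2 ⟨g24, (List.forall_mem_cons.2 ⟨g31, (List.forall_mem_cons.2 ⟨g7, (List.forall_mem_cons.2 ⟨g6, (List.forall_mem_cons.2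 ⟨g5, (List.forall_mem_cons.2 ⟨g23, (List.forall_mem_cons.2 ⟨g51, (List.forall_mem_cons.2 ⟨g45, (List.forall_mem_cons.2 ⟨g50, (List.forall_mem_cons.2 ⟨g44, (List.forall_mem_cons.2 ⟨g55, (List.forall_mem_cons.2 ⟨g54, (List.forall_mem_cons.2 ⟨g57, (List.forall_mem_cons.2 ⟨g56, (List.forall_mem_cons.2 ⟨g27, (List.forall_mem_cons.2 ⟨g53, (List.forall_mem_cons.2 ⟨g46, (List.forall_mem_cons.2 ⟨g52, (List.forall_mem_cons.2 ⟨g26, (List.forall_mem_nil _)⟩)⟩)⟩)⟩)⟩)⟩)⟩)⟩)⟩)⟩)⟩)⟩)⟩)⟩)⟩)⟩)⟩)⟩)⟩)⟩)⟩)⟩)⟩)⟩)⟩)⟩)⟩)⟩)⟩)⟩)⟩)⟩)⟩)⟩)⟩)⟩)⟩)⟩)⟩)⟩) r58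
theorem g21 : Good.{u} cE2 s21 := sound (List.forall_mem_nil _) r21
theorem g59 : Good.{u} cE2 s59 := sound (List.forall_mem_cons.2 ⟨g58, (List.forall_mem_cons.2 ⟨g21, (List.forall_mem_nil _)⟩)⟩) r59
theorem g61 : Good.{u} cE2 s61 := sound (List.forall_mem_cons.2 ⟨g59, (List.forall_mem_nil _)⟩) r61
theorem g60 : Good.{u} cE2 s60 := sound (List.forall_mem_nil _) r60
theorem g90 : Good.{u} cE2 s90 := sound (List.forall_mem_cons.2 ⟨g81, (List.forall_mem_cons.2 ⟨g61, (List.forall_mem_cons.2 ⟨g60, (List.forall_mem_nil _)⟩)⟩)⟩) r90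
theorem g105 : Good.{u} cE2 s105 := sound (List.forall_mem_nil _) r105
theorem g92 : Good.{u} cE2 s92 := sound (List.forall_mem_nil _) r92
theorem g91 : Good.{u} cE2 s91 := sound (List.forall_mem_nil _) r91
theorem g103 : Good.{u} cE2 s103 := sound (List.forall_mem_nil _) r103
theorem g97 : Good.{u} cE2 s97 := sound (List.forall_mem_nil _) r97
theorem g93 : Good.{u} cE2 s93 := sound (List.forall_mem_nil _) r93
theorem g98 : Good.{u} cE2 s98 := sound (List.forall_mem_nil _) r98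
theorem g96 : Good.{u} cE2 s96 := sound (List.forall_mem_nil _) r96
theorem g106 : Good.{u} cE2 s106 := sound (List.forall_mem_nil _) r106
theorem g100 : Good.{u} cE2 s100 := sound (List.forall_mem_nil _) r100
theorem g99 : Good.{u} cE2 s99 := sound (List.forall_mem_nil _) r99
theorem g101 : Good.{u} cE2 s101 := sound (List.forall_mem_nil _) r101
theorem g94 : Good.{u} cE2 s94 := sound (List.forall_mem_nil _) r94
theorem g102 : Good.{u} cE2 s102 := sound (List.forall_mem_nil _) r102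
theorem g107 : Good.{u} cE2 s107 := sound (List.forall_mem_nil _) r107
theorem g104 : Good.{u} cE2 s104 := sound (List.forall_mem_nil _) r104
theorem g95 : Good.{u} cE2 s95 := sound (List.forall_mem_nil _) r95
theorem g4 : Good.{u} cE2 s4 := sound (List.forall_mem_nil _) r4
theorem g3 : Good.{u} cE2 s3 := sound (List.forall_mem_nil _) r3
theorem g2 : Good.{u} cE2 s2 := sound (List.forall_mem_nil _) r2
theorem g1 : Good.{u} cE2 s1 := sound (List.forall_mem_nil _) r1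
theorem g108 : Good.{u} cE2 s108 := sound (List.forall_mem_cons.2 ⟨g105, (List.forall_mem_cons.2 ⟨g92, (List.forall_mem_cons.2 ⟨g91, (List.forall_mem_cons.2 ⟨g103, (List.forall_mem_cons.2 ⟨g97, (List.forall_mem_cons.2 ⟨g93, (List.forall_mem_cons.2 ⟨g98, (List.forall_mem_cons.2 ⟨g96, (List.forall_mem_cons.2 ⟨g106, (List.forall_mem_cons.2 ⟨g100, (List.forall_mem_cons.2 ⟨g99, (List.forall_mem_cons.2 ⟨g101, (List.forall_mem_cons.2 ⟨g94, (List.forall_mem_cons.2 ⟨g102, (List.forall_mem_cons.2 ⟨g107, (List.forall_mem_cons.2 ⟨g104, (List.forall_mem_cons.2 ⟨g95, (List.forall_mem_cons.2 ⟨g4, (List.forall_mem_cons.2 ⟨g3, (List.forall_mem_cons.2 ⟨g2, (List.forall_mem_cons.2 ⟨g1, (List.forall_mem_nil _)⟩)⟩)⟩)⟩)⟩)⟩)⟩)⟩)⟩)⟩)⟩)⟩)⟩)⟩)⟩)⟩)⟩)⟩)⟩)⟩)⟩) r108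
theorem g109 : Good.{u} cE2 s109 := sound (List.forall_mem_cons.2 ⟨g108, (List.forall_mem_nil _)⟩) r109
theorem g110 : Good.{u} cE2 s110 := sound (List.forall_mem_cons.2 ⟨g109, (List.forall_mem_nil _)⟩) r110
theorem g111 : Good.{u} cE2 s111 := sound (List.forall_mem_cons.2 ⟨g89, (List.forall_mem_cons.2 ⟨g85, (List.forall_mem_cons.2 ⟨g90, (List.forall_mem_cons.2 ⟨g110, (List.forall_mem_nil _)⟩)⟩)⟩)⟩) r111
theorem g0 : Good.{u} cE2 s0 := sound (List.forall_mem_nil _) r0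
theorem g112 : Good.{u} cE2 s112 := sound (List.forall_mem_cons.2 ⟨g111, (List.forall_mem_cons.2 ⟨g0, (List.forall_mem_nil _)⟩)⟩) r112

theorem good : Good.{u} cE2 st0 := g112

end Cfsg.Agent.D8E.E2
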