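import Mathlib
import Cfsg.Agent.D8E.Top
import Cfsg.Agent.D8E.Ctx

/-! Generated certificates. -/

set_option autoImplicit false
set_option maxRecDepth 1000000
set_option linter.style.longLine false
set_option Elab.async false

namespace Cfsg.Agent.D8E.E2

open Cfsg.Agent.D8E

def s0 : St :=
 ⟨[([3,2,4,8,18,104,70],0),([5,2,4,10,18,56],6)],
  [([1,6,4,16],[1,6,20,4]),([1,2,4,8,16,64,128],[9,2,6,8,212,74,138])],
  [33], 7⟩

def s1 : St :=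
 ⟨[([99,66,4,136,208,96,68,216,268],38),([9,2,4,8,80,224,64,192],0),([89,2,4,72,80,96,64],64),([5,2,4,8,16,32],0)],
  [],
  [3], 7⟩

def s2 : St :=
 ⟨[([99,66,4,136,208,96,64,192,452],68),([9,2,4,8,80,224,64,192],0),([89,2,4,72,80,96,64],64),([5,2,4,8,16,32],0)],
  [],
  [3], 7⟩

def s3 : St :=
 ⟨[([99,66,4,136,208,96,68,216,268],34),([9,2,4,8,80,224,64,192],0),([89,2,4,72,80,96,64],64),([5,2,4,8,16,32],0)],
  [],
  [3], 7⟩

def s4 : St :=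
 ⟨[([99,66,4,136,208,96,64,192,452],64),([9,2,4,8,80,224,64,192],0),([89,2,4,72,80,96,64],64),([5,2,4,8,16,32],0)],
  [],
  [3], 7⟩

def s5 : St :=
 ⟨[([33,66,4,264,336,32,68,130,344,524],36),([9,2,4,8,80,352,64,128,320],0),([89,2,4,72,80,96,64,128],64),([3,2,4,8,16,96,64],0),([5,2,4,8,16,32],0)],
  [],
  [], 7⟩

def s6 : St :=
 ⟨[([33,66,4,264,336,32,64,192,320,836],4),([9,2,4,8,80,352,64,128,320],0),([89,2,4,72,80,96,64,128],64),([3,2,4,8,16,96,64],0),([5,2,4,8,16,32],0)],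
  [],
  [], 7⟩

def s7 : St :=
 ⟨[([33,66,4,264,336,32,68,130,344,524],32),([9,2,4,8,80,352,64,128,320],0),([89,2,4,72,80,96,64,128],64),([3,2,4,8,16,96,64],0),([5,2,4,8,16,32],0)],
  [],
  [], 7⟩

def s8 : St :=
 ⟨[([33,66,4,264,336,32,68,134,344,524],32),([9,2,4,8,80,352,64,128,320],0),([89,2,4,72,80,96,64,128],64),([3,2,4,8,16,96,64],0),([5,2,4,8,16,32],0)],
  [],
  [], 7⟩

def s9 : St :=
 ⟨[([33,66,4,264,336,32,68,134,344,524],36),([9,2,4,8,80,352,64,128,320],0),([89,2,4,72,80,96,64,128],64),([3,2,4,8,16,96,64],0),([5,2,4,8,16,32],0)],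
  [],
  [], 7⟩

def s10 : St :=
 ⟨[([33,66,4,264,336,32,64,160,320,836],4),([9,2,4,8,80,352,64,136,320],0),([89,2,4,72,80,96,64,220],64),([3,2,4,8,16,96,68],2),([5,2,4,8,16,32],0)],
  [],
  [137], 7⟩

def s11 : St :=
 ⟨[([33,66,4,264,336,32,68,226,344,524],36),([9,2,4,8,80,352,64,136,320],0),([89,2,4,72,80,96,64,220],64),([3,2,4,8,16,96,68],2),([5,2,4,8,16,32],0)],
  [],
  [137], 7⟩

def s12 : St :=
 ⟨[([33,66,4,264,336,32,64,160,320,836],0),([9,2,4,8,80,352,64,136,320],0),([89,2,4,72,80,96,64,220],64),([3,2,4,8,16,96,68],2),([5,2,4,8,16,32],0)],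
  [],
  [137], 7⟩

def s13 : St :=
 ⟨[([33,66,4,264,336,32,68,226,344,524],32),([9,2,4,8,80,352,64,136,320],0),([89,2,4,72,80,96,64,220],64),([3,2,4,8,16,96,68],2),([5,2,4,8,16,32],0)],
  [],
  [137], 7⟩

def s14 : St :=
 ⟨[([33,66,4,264,336,32,64,164,320,836],0),([9,2,4,8,80,352,64,136,320],0),([89,2,4,72,80,96,64,220],64),([3,2,4,8,16,96,68],2),([5,2,4,8,16,32],0)],
  [],
  [137], 7⟩

def s15 : St :=
 ⟨[([33,66,4,264,336,32,68,230,344,524],32),([9,2,4,8,80,352,64,136,320],0),([89,2,4,72,80,96,64,220],64),([3,2,4,8,16,96,68],2),([5,2,4,8,16,32],0)],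
  [],
  [137], 7⟩

def s16 : St :=
 ⟨[([33,66,4,264,336,32,64,164,320,836],4),([9,2,4,8,80,352,64,136,320],0),([89,2,4,72,80,96,64,220],64),([3,2,4,8,16,96,68],2),([5,2,4,8,16,32],0)],
  [],
  [137], 7⟩

def s17 : St :=
 ⟨[([33,66,4,264,336,32,68,230,344,524],36),([9,2,4,8,80,352,64,136,320],0),([89,2,4,72,80,96,64,220],64),([3,2,4,8,16,96,68],2),([5,2,4,8,16,32],0)],
  [],
  [137], 7⟩

def s18 : St :=
 ⟨[([33,88,4,504,442,32,68,360,346],0),([65,2,4,16,8,32,68,198],0),([3,2,4,8,16,98,68],0),([5,2,4,8,16,32],4)],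
  [([1,2,4,8,128,16,64,288],[9,2,4,8,136,90,64,292]),([77,2,4,94,9,129,256],[77,2,90,4,449,217,214])],
  [], 1⟩

def s19 : St :=
 ⟨[([33,88,4,504,442,32,68,360,346],0),([65,2,4,16,8,32,68,198],0),([3,2,4,8,16,98,68],0),([5,2,4,8,16,32],4)],
  [([1,2,4,8,128,16,64,288],[9,2,4,8,136,90,64,292]),([77,2,4,94,9,129,256],[77,2,90,4,451,221,208])],
  [], 1⟩

def s20 : St :=
 ⟨[([33,88,4,504,442,32,68,360,346],0),([65,2,4,16,8,32,68,198],0),([3,2,4,8,16,98,68],0),([5,2,4,8,16,32],4)],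
  [([1,2,4,8,128,16,64,288],[9,2,4,8,136,90,64,292]),([77,2,4,94,9,129,256],[77,2,90,4,453,217,136])],
  [], 1⟩

def s21 : St :=
 ⟨[([9,2,4,8,80,352,64,128,320],0),([89,2,4,72,80,96,64,128],64),([3,2,4,8,16,96,64],0),([5,2,4,8,16,32],0)],
  [([33,1,5,89,26,264],[1,61,57,37,30,14])],
  [], 1⟩

def s22 : St :=
 ⟨[([33,66,4,264,336,32,64,192,320,836],4),([9,2,4,8,80,352,64,128,320],0),([89,2,4,72,80,96,64,128],64),([3,2,4,8,16,96,64],0),([5,2,4,8,16,32],0)],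
  [],
  [], 1⟩

def s23 : St :=
 ⟨[([33,66,4,264,336,32,64,192,320,836],0),([9,2,4,8,80,352,64,128,320],0),([89,2,4,72,80,96,64,128],64),([3,2,4,8,16,96,64],0),([5,2,4,8,16,32],0)],
  [([1,2,4,8,128,64,512],[1,2,12,4,138,586,74])],
  [], 1⟩

def s24 : St :=
 ⟨[([33,66,4,264,336,32,64,196,320,836],0),([9,2,4,8,80,352,64,128,320],0),([89,2,4,72,80,96,64,128],64),([3,2,4,8,16,96,64],0),([5,2,4,8,16,32],0)],
  [([1,2,4,8,128,64,512],[1,2,12,4,138,586,74])],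
  [], 1⟩

def s25 : St :=
 ⟨[([33,66,4,264,336,32,64,196,320,836],4),([9,2,4,8,80,352,64,128,320],0),([89,2,4,72,80,96,64,128],64),([3,2,4,8,16,96,64],0),([5,2,4,8,16,32],0)],
  [([1,2,4,8,128,64,512],[1,2,12,4,138,586,74])],
  [], 1⟩

def s26 : St :=
 ⟨[([33,66,4,330,274,120,68,130,344,654],318),([9,2,4,8,80,352,64,128,320],0),([89,2,4,72,80,96,64,128],64),([3,2,4,8,16,96,64],0),([5,2,4,8,16,32],0)],
  [([1,2,4,8,128,64,512],[1,2,12,4,138,586,74])],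
  [], 7⟩

def s27 : St :=
 ⟨[([33,66,4,330,274,120,68,130,344,650],318),([9,2,4,8,80,352,64,128,320],0),([89,2,4,72,80,96,64,128],64),([3,2,4,8,16,96,64],0),([5,2,4,8,16,32],0)],
  [([1,2,4,8,128,64,512],[1,2,12,4,138,586,74])],
  [], 7⟩

def s28 : St :=
 ⟨[([33,66,4,336,264,32,68,130,284,852],36),([9,2,4,8,80,352,64,128,320],0),([89,2,4,72,80,96,64,128],64),([3,2,4,8,16,96,64],0),([5,2,4,8,16,32],0)],
  [([1,2,4,8,128,64,512],[1,2,12,4,138,586,74])],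
  [], 7⟩

def s29 : St :=
 ⟨[([33,66,4,264,336,32,64,196,320,832],4),([9,2,4,8,80,352,64,128,320],0),([89,2,4,72,80,96,64,128],64),([3,2,4,8,16,96,64],0),([5,2,4,8,16,32],0)],
  [([1,2,4,8,128,64,512],[1,2,12,4,138,586,74])],
  [], 7⟩

def s30 : St :=
 ⟨[([33,66,4,264,336,32,64,196,320,832],0),([9,2,4,8,80,352,64,128,320],0),([89,2,4,72,80,96,64,128],64),([3,2,4,8,16,96,64],0),([5,2,4,8,16,32],0)],
  [([1,2,4,8,128,64,512],[1,2,12,4,138,586,74])],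
  [], 7⟩

def s31 : St :=
 ⟨[([33,66,4,264,336,32,64,192,320,832],4),([9,2,4,8,80,352,64,128,320],0),([89,2,4,72,80,96,64,128],64),([3,2,4,8,16,96,64],0),([5,2,4,8,16,32],0)],
  [([1,2,4,8,128,64,512],[1,2,12,4,138,586,74])],
  [], 7⟩

def s32 : St :=
 ⟨[([33,66,4,336,264,32,68,130,284,848],32),([9,2,4,8,80,352,64,128,320],0),([89,2,4,72,80,96,64,128],64),([3,2,4,8,16,96,64],0),([5,2,4,8,16,32],0)],
  [([1,2,4,8,128,64,512],[1,2,12,4,138,586,74])],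
  [], 7⟩

def s33 : St :=
 ⟨[([33,66,4,336,264,32,64,196,256,512],4),([9,2,4,8,80,352,64,128,320],0),([89,2,4,72,80,96,64,128],64),([3,2,4,8,16,96,64],0),([5,2,4,8,16,32],0)],
  [([1,2,4,8,128,64,512],[1,2,12,4,138,586,74])],
  [], 7⟩

def s34 : St :=
 ⟨[([33,66,4,336,264,32,64,196,256,512],0),([9,2,4,8,80,352,64,128,320],0),([89,2,4,72,80,96,64,128],64),([3,2,4,8,16,96,64],0),([5,2,4,8,16,32],0)],
  [([1,2,4,8,128,64,512],[1,2,12,4,138,586,74])],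
  [], 7⟩

def s35 : St :=
 ⟨[([33,66,4,336,264,32,68,134,284,852],32),([9,2,4,8,80,352,64,128,320],0),([89,2,4,72,80,96,64,128],64),([3,2,4,8,16,96,64],0),([5,2,4,8,16,32],0)],
  [([1,2,4,8,128,64,512],[1,2,12,4,138,586,74])],
  [], 7⟩

def s36 : St :=
 ⟨[([33,66,4,336,264,32,68,134,284,852],36),([9,2,4,8,80,352,64,128,320],0),([89,2,4,72,80,96,64,128],64),([3,2,4,8,16,96,64],0),([5,2,4,8,16,32],0)],
  [([1,2,4,8,128,64,512],[1,2,12,4,138,586,74])],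
  [], 7⟩

def s37 : St :=
 ⟨[([33,66,4,336,264,32,68,134,284,848],32),([9,2,4,8,80,352,64,128,320],0),([89,2,4,72,80,96,64,128],64),([3,2,4,8,16,96,64],0),([5,2,4,8,16,32],0)],
  [([1,2,4,8,128,64,512],[1,2,12,4,138,586,74])],
  [], 7⟩

def s38 : St :=
 ⟨[([33,66,4,336,264,32,68,134,284,848],36),([9,2,4,8,80,352,64,128,320],0),([89,2,4,72,80,96,64,128],64),([3,2,4,8,16,96,64],0),([5,2,4,8,16,32],0)],
  [([1,2,4,8,128,64,512],[1,2,12,4,138,586,74])],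
  [], 7⟩

def s39 : St :=
 ⟨[([33,66,4,336,264,32,68,130,284,852],32),([9,2,4,8,80,352,64,128,320],0),([89,2,4,72,80,96,64,128],64),([3,2,4,8,16,96,64],0),([5,2,4,8,16,32],0)],
  [([1,2,4,8,128,64,512],[1,2,12,4,138,586,74])],
  [], 7⟩

def s40 : St :=
 ⟨[([33,66,4,336,264,32,64,192,256,516],4),([9,2,4,8,80,352,64,128,320],0),([89,2,4,72,80,96,64,128],64),([3,2,4,8,16,96,64],0),([5,2,4,8,16,32],0)],
  [([1,2,4,8,128,64,512],[1,2,12,4,138,586,74])],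
  [], 7⟩

def s41 : St :=
 ⟨[([33,66,4,336,264,32,64,192,256,516],0),([9,2,4,8,80,352,64,128,320],0),([89,2,4,72,80,96,64,128],64),([3,2,4,8,16,96,64],0),([5,2,4,8,16,32],0)],
  [([1,2,4,8,128,64,512],[1,2,12,4,138,586,74])],
  [], 7⟩

def s42 : St :=
 ⟨[([33,66,4,336,264,32,64,196,256,516],4),([9,2,4,8,80,352,64,128,320],0),([89,2,4,72,80,96,64,128],64),([3,2,4,8,16,96,64],0),([5,2,4,8,16,32],0)],
  [([1,2,4,8,128,64,512],[1,2,12,4,138,586,74])],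
  [], 7⟩

def s43 : St :=
 ⟨[([33,66,4,336,264,32,64,196,256,516],0),([9,2,4,8,80,352,64,128,320],0),([89,2,4,72,80,96,64,128],64),([3,2,4,8,16,96,64],0),([5,2,4,8,16,32],0)],
  [([1,2,4,8,128,64,512],[1,2,12,4,138,586,74])],
  [], 7⟩

def s44 : St :=
 ⟨[([33,66,4,274,330,120,68,130,284,978],312),([9,2,4,8,80,352,64,128,320],0),([89,2,4,72,80,96,64,128],64),([3,2,4,8,16,96,64],0),([5,2,4,8,16,32],0)],
  [([1,2,4,8,128,64,512],[1,2,12,4,138,586,74])],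
  [], 7⟩

def s45 : St :=
 ⟨[([33,66,4,274,330,120,68,130,284,978],316),([9,2,4,8,80,352,64,128,320],0),([89,2,4,72,80,96,64,128],64),([3,2,4,8,16,96,64],0),([5,2,4,8,16,32],0)],
  [([1,2,4,8,128,64,512],[1,2,12,4,138,586,74])],
  [], 7⟩

def s46 : St :=
 ⟨[([33,66,4,330,274,120,68,130,344,654],314),([9,2,4,8,80,352,64,128,320],0),([89,2,4,72,80,96,64,128],64),([3,2,4,8,16,96,64],0),([5,2,4,8,16,32],0)],
  [([1,2,4,8,128,64,512],[1,2,12,4,138,586,74])],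
  [], 7⟩

def s47 : St :=
 ⟨[([33,66,4,336,264,32,64,192,256,512],0),([9,2,4,8,80,352,64,128,320],0),([89,2,4,72,80,96,64,128],64),([3,2,4,8,16,96,64],0),([5,2,4,8,16,32],0)],
  [([1,2,4,8,128,64,512],[1,2,12,4,138,586,74])],
  [], 7⟩

def s48 : St :=
 ⟨[([33,66,4,336,264,32,64,192,256,512],4),([9,2,4,8,80,352,64,128,320],0),([89,2,4,72,80,96,64,128],64),([3,2,4,8,16,96,64],0),([5,2,4,8,16,32],0)],
  [([1,2,4,8,128,64,512],[1,2,12,4,138,586,74])],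
  [], 7⟩

def s49 : St :=
 ⟨[([33,66,4,336,264,32,68,130,284,848],36),([9,2,4,8,80,352,64,128,320],0),([89,2,4,72,80,96,64,128],64),([3,2,4,8,16,96,64],0),([5,2,4,8,16,32],0)],
  [([1,2,4,8,128,64,512],[1,2,12,4,138,586,74])],
  [], 7⟩

def s50 : St :=
 ⟨[([33,66,4,274,330,120,64,192,256,704],320),([9,2,4,8,80,352,64,128,320],0),([89,2,4,72,80,96,64,128],64),([3,2,4,8,16,96,64],0),([5,2,4,8,16,32],0)],
  [([1,2,4,8,128,64,512],[1,2,12,4,138,586,74])],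
  [], 7⟩

def s51 : St :=
 ⟨[([33,66,4,274,330,120,64,192,256,704],324),([9,2,4,8,80,352,64,128,320],0),([89,2,4,72,80,96,64,128],64),([3,2,4,8,16,96,64],0),([5,2,4,8,16,32],0)],
  [([1,2,4,8,128,64,512],[1,2,12,4,138,586,74])],
  [], 7⟩

def s52 : St :=
 ⟨[([33,66,4,330,274,120,64,192,320,900],322),([9,2,4,8,80,352,64,128,320],0),([89,2,4,72,80,96,64,128],64),([3,2,4,8,16,96,64],0),([5,2,4,8,16,32],0)],
  [([1,2,4,8,128,64,512],[1,2,12,4,138,586,74])],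
  [], 7⟩

def s53 : St :=
 ⟨[([33,66,4,330,274,120,64,192,320,900],326),([9,2,4,8,80,352,64,128,320],0),([89,2,4,72,80,96,64,128],64),([3,2,4,8,16,96,64],0),([5,2,4,8,16,32],0)],
  [([1,2,4,8,128,64,512],[1,2,12,4,138,586,74])],
  [], 7⟩

def s54 : St :=
 ⟨[([33,66,4,274,330,120,68,130,280,912],290),([9,2,4,8,80,352,64,128,320],0),([89,2,4,72,80,96,64,128],64),([3,2,4,8,16,96,64],0),([5,2,4,8,16,32],0)],
  [([1,2,4,8,128,64,512],[1,2,12,4,138,586,74])],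
  [], 7⟩

def s55 : St :=
 ⟨[([33,66,4,274,330,120,68,130,280,912],294),([9,2,4,8,80,352,64,128,320],0),([89,2,4,72,80,96,64,128],64),([3,2,4,8,16,96,64],0),([5,2,4,8,16,32],0)],
  [([1,2,4,8,128,64,512],[1,2,12,4,138,586,74])],
  [], 7⟩

def s56 : St :=
 ⟨[([33,66,4,274,330,120,68,130,280,916],294),([9,2,4,8,80,352,64,128,320],0),([89,2,4,72,80,96,64,128],64),([3,2,4,8,16,96,64],0),([5,2,4,8,16,32],0)],
  [([1,2,4,8,128,64,512],[1,2,12,4,138,586,74])],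
  [], 7⟩

def s57 : St :=
 ⟨[([33,66,4,274,330,120,68,130,280,916],290),([9,2,4,8,80,352,64,128,320],0),([89,2,4,72,80,96,64,128],64),([3,2,4,8,16,96,64],0),([5,2,4,8,16,32],0)],
  [([1,2,4,8,128,64,512],[1,2,12,4,138,586,74])],
  [], 7⟩

def s58 : St :=
 ⟨[([9,2,4,8,80,352,64,128,320],0),([89,2,4,72,80,96,64,128],64),([3,2,4,8,16,96,64],0),([5,2,4,8,16,32],0)],
  [([1,2,4,8,128,64,512],[1,2,12,4,138,586,74])],
  [], 6⟩

def s59 : St :=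
 ⟨[([9,2,4,8,80,352,64,128,320],0),([89,2,4,72,80,96,64,128],64),([3,2,4,8,16,96,64],0),([5,2,4,8,16,32],0)],
  [([1,2,4,8,128,64,512],[1,2,12,4,138,586,74])],
  [], 7⟩

def s60 : St :=
 ⟨[([3,2,4,8,16,96,64],0),([5,2,4,8,16,32],0)],
  [([1,2,4,8,128],[1,2,12,4,138]),([1,2,4,8,128,16,64],[9,2,4,8,128,86,64])],
  [], 7⟩

def s61 : St :=
 ⟨[([3,2,4,8,16,96,64],0),([5,2,4,8,16,32],0)],
  [([1,2,4,8,128],[1,2,12,4,138]),([1,2,4,8,128,16,64],[9,2,4,8,128,84,64])],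
  [], 7⟩

def s62 : St :=
 ⟨[([33,66,4,336,264,32,68,230,284,848],32),([9,2,4,8,80,352,64,136,320],0),([89,2,4,72,80,96,64,220],64),([3,2,4,8,16,96,68],2),([5,2,4,8,16,32],0)],
  [([1,2,4,8,128,64,512],[1,2,12,4,138,586,74])],
  [137], 7⟩

def s63 : St :=
 ⟨[([33,66,4,336,264,32,64,164,256,512],4),([9,2,4,8,80,352,64,136,320],0),([89,2,4,72,80,96,64,220],64),([3,2,4,8,16,96,68],2),([5,2,4,8,16,32],0)],
  [([1,2,4,8,128,64,512],[1,2,12,4,138,586,74])],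
  [137], 7⟩

def s64 : St :=
 ⟨[([33,66,4,336,264,32,68,226,284,848],32),([9,2,4,8,80,352,64,136,320],0),([89,2,4,72,80,96,64,220],64),([3,2,4,8,16,96,68],2),([5,2,4,8,16,32],0)],
  [([1,2,4,8,128,64,512],[1,2,12,4,138,586,74])],
  [137], 7⟩

def s65 : St :=
 ⟨[([33,66,4,336,264,32,64,160,256,512],0),([9,2,4,8,80,352,64,136,320],0),([89,2,4,72,80,96,64,220],64),([3,2,4,8,16,96,68],2),([5,2,4,8,16,32],0)],
  [([1,2,4,8,128,64,512],[1,2,12,4,138,586,74])],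
  [137], 7⟩

def s66 : St :=
 ⟨[([33,66,4,336,264,32,68,226,284,852],36),([9,2,4,8,80,352,64,136,320],0),([89,2,4,72,80,96,64,220],64),([3,2,4,8,16,96,68],2),([5,2,4,8,16,32],0)],
  [([1,2,4,8,128,64,512],[1,2,12,4,138,586,74])],
  [137], 7⟩

def s67 : St :=
 ⟨[([33,66,4,336,264,32,64,160,256,516],4),([9,2,4,8,80,352,64,136,320],0),([89,2,4,72,80,96,64,220],64),([3,2,4,8,16,96,68],2),([5,2,4,8,16,32],0)],
  [([1,2,4,8,128,64,512],[1,2,12,4,138,586,74])],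
  [137], 7⟩

def s68 : St :=
 ⟨[([33,66,4,336,264,32,68,230,284,852],36),([9,2,4,8,80,352,64,136,320],0),([89,2,4,72,80,96,64,220],64),([3,2,4,8,16,96,68],2),([5,2,4,8,16,32],0)],
  [([1,2,4,8,128,64,512],[1,2,12,4,138,586,74])],
  [137], 7⟩

def s69 : St :=
 ⟨[([33,66,4,336,264,32,64,164,256,516],0),([9,2,4,8,80,352,64,136,320],0),([89,2,4,72,80,96,64,220],64),([3,2,4,8,16,96,68],2),([5,2,4,8,16,32],0)],
  [([1,2,4,8,128,64,512],[1,2,12,4,138,586,74])],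
  [137], 7⟩

def s70 : St :=
 ⟨[([33,66,4,336,264,32,68,230,284,852],32),([9,2,4,8,80,352,64,136,320],0),([89,2,4,72,80,96,64,220],64),([3,2,4,8,16,96,68],2),([5,2,4,8,16,32],0)],
  [([1,2,4,8,128,64,512],[1,2,12,4,138,586,74])],
  [137], 7⟩

def s71 : St :=
 ⟨[([33,66,4,336,264,32,64,164,256,516],4),([9,2,4,8,80,352,64,136,320],0),([89,2,4,72,80,96,64,220],64),([3,2,4,8,16,96,68],2),([5,2,4,8,16,32],0)],
  [([1,2,4,8,128,64,512],[1,2,12,4,138,586,74])],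
  [137], 7⟩

def s72 : St :=
 ⟨[([33,66,4,336,264,32,68,226,284,852],32),([9,2,4,8,80,352,64,136,320],0),([89,2,4,72,80,96,64,220],64),([3,2,4,8,16,96,68],2),([5,2,4,8,16,32],0)],
  [([1,2,4,8,128,64,512],[1,2,12,4,138,586,74])],
  [137], 7⟩

def s73 : St :=
 ⟨[([33,66,4,336,264,32,64,160,256,516],0),([9,2,4,8,80,352,64,136,320],0),([89,2,4,72,80,96,64,220],64),([3,2,4,8,16,96,68],2),([5,2,4,8,16,32],0)],
  [([1,2,4,8,128,64,512],[1,2,12,4,138,586,74])],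
  [137], 7⟩

def s74 : St :=
 ⟨[([33,66,4,336,264,32,68,226,284,848],36),([9,2,4,8,80,352,64,136,320],0),([89,2,4,72,80,96,64,220],64),([3,2,4,8,16,96,68],2),([5,2,4,8,16,32],0)],
  [([1,2,4,8,128,64,512],[1,2,12,4,138,586,74])],
  [137], 7⟩

def s75 : St :=
 ⟨[([33,66,4,336,264,32,64,160,256,512],4),([9,2,4,8,80,352,64,136,320],0),([89,2,4,72,80,96,64,220],64),([3,2,4,8,16,96,68],2),([5,2,4,8,16,32],0)],
  [([1,2,4,8,128,64,512],[1,2,12,4,138,586,74])],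
  [137], 7⟩

def s76 : St :=
 ⟨[([33,66,4,336,264,32,68,230,284,848],36),([9,2,4,8,80,352,64,136,320],0),([89,2,4,72,80,96,64,220],64),([3,2,4,8,16,96,68],2),([5,2,4,8,16,32],0)],
  [([1,2,4,8,128,64,512],[1,2,12,4,138,586,74])],
  [137], 7⟩

def s77 : St :=
 ⟨[([33,66,4,336,264,32,64,164,256,512],0),([9,2,4,8,80,352,64,136,320],0),([89,2,4,72,80,96,64,220],64),([3,2,4,8,16,96,68],2),([5,2,4,8,16,32],0)],
  [([1,2,4,8,128,64,512],[1,2,12,4,138,586,74])],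
  [137], 7⟩

def s78 : St :=
 ⟨[([9,2,4,8,80,352,64,136,320],0),([89,2,4,72,80,96,64,220],64),([3,2,4,8,16,96,68],2),([5,2,4,8,16,32],0)],
  [([1,2,4,8,128,64,512],[1,2,12,4,138,586,74])],
  [129,133,137,393,641,643,645,647], 6⟩

def s79 : St :=
 ⟨[([3,2,4,8,16,96,68],2),([5,2,4,8,16,32],0)],
  [([1,2,4,8,128],[1,2,12,4,138]),([1,2,4,8,128,16,64],[9,2,4,8,136,84,64])],
  [137], 7⟩

def s80 : St :=
 ⟨[([3,2,4,8,16,96,68],2),([5,2,4,8,16,32],0)],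
  [([1,2,4,8,128],[1,2,12,4,138]),([1,2,4,8,128,16,64],[9,2,4,8,136,86,64])],
  [137], 7⟩

def s81 : St :=
 ⟨[([3,2,4,8,16,96,68],2),([5,2,4,8,16,32],0)],
  [([1,2,4,8],[1,2,12,4]),([1,6,4,16],[1,6,20,4])],
  [], 7⟩

def s82 : St :=
 ⟨[([33,88,4,440,506,98,64,272,380],462),([65,2,4,16,8,32,64,128],68),([3,2,4,8,16,98,64],2),([5,2,4,8,16,32],4)],
  [([1,2,4,8,128],[1,2,12,4,138]),([1,2,4,8,128,16,64,288],[9,2,4,8,128,90,64,300])],
  [129,257], 7⟩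

def s83 : St :=
 ⟨[([33,88,4,480,418,98,64,272,358],438),([65,2,4,16,8,32,64,128],68),([3,2,4,8,16,98,64],2),([5,2,4,8,16,32],4)],
  [([1,2,4,8,128],[1,2,12,4,138]),([1,2,4,8,128,16,64,288],[9,2,4,8,128,90,64,300])],
  [129,257], 7⟩

def s84 : St :=
 ⟨[([33,88,4,480,418,98,68,328,290],456),([65,2,4,16,8,32,64,128],68),([3,2,4,8,16,98,64],2),([5,2,4,8,16,32],4)],
  [([1,2,4,8,128,16,64,288],[9,2,4,8,128,90,64,300])],
  [129,257], 7⟩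

def s85 : St :=
 ⟨[([65,2,4,16,8,32,64,128],68),([3,2,4,8,16,98,64],2),([5,2,4,8,16,32],4)],
  [([3,1,5,9,17,96,32],[1,7,3,23,11,58,126]),([1,2,4,8,128],[1,2,12,4,138]),([1,2,4,8,128,16,64],[9,2,4,8,128,90,64])],
  [129,137,145,257], 7⟩

def s86 : St :=
 ⟨[([33,88,4,416,482,32,64,304,256],0),([65,2,4,16,8,32,68,198],0),([3,2,4,8,16,98,68],0),([5,2,4,8,16,32],4)],
  [],
  [], 7⟩

def s87 : St :=
 ⟨[([33,88,4,504,442,32,68,360,346],0),([65,2,4,16,8,32,68,198],0),([3,2,4,8,16,98,68],0),([5,2,4,8,16,32],4)],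
  [([1,2,4,8,128],[1,2,12,4,138]),([1,2,4,8,128,16,64,288],[9,2,4,8,136,90,64,292])],
  [], 7⟩

def s88 : St :=
 ⟨[([33,88,4,504,442,32,64,304,282],32),([65,2,4,16,8,32,68,198],0),([3,2,4,8,16,98,68],0),([5,2,4,8,16,32],4)],
  [([1,2,4,8,128],[1,2,12,4,138]),([1,2,4,8,128,16,64,288],[9,2,4,8,136,90,64,292])],
  [], 7⟩

def s89 : St :=
 ⟨[([65,2,4,16,8,32,68,198],0),([3,2,4,8,16,98,68],0),([5,2,4,8,16,32],4)],
  [([1,6,4,16],[1,6,20,4]),([5,1,2,8,16,32],[1,5,6,20,8,60]),([3,1,5,9,17,96,32],[1,7,3,23,11,58,126]),([1,2,4,8,128],[1,2,12,4,138]),([1,2,4,8,128,16,64],[9,2,4,8,136,90,64])],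
  [], 7⟩

def s90 : St :=
 ⟨[([5,2,4,8,16,32],0)],
  [([1,2,4,8],[1,2,12,4]),([1,6,4,16],[1,6,20,4]),([3,1,5,9,17],[1,7,3,23,11])],
  [], 7⟩

def s91 : St :=
 ⟨[([33,66,4,208,136,32,68,156,464],32),([9,2,4,8,80,224,64,192],0),([89,2,4,72,80,96,64],64),([5,2,4,8,16,32],0)],
  [([1,2,4,8,64,256],[1,2,12,4,330,74])],
  [3], 7⟩

def s92 : St :=
 ⟨[([33,66,4,208,136,32,68,156,468],32),([9,2,4,8,80,224,64,192],0),([89,2,4,72,80,96,64],64),([5,2,4,8,16,32],0)],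
  [([1,2,4,8,64,256],[1,2,12,4,330,74])],
  [3], 7⟩

def s93 : St :=
 ⟨[([33,66,4,136,208,32,68,216,268],36),([9,2,4,8,80,224,64,192],0),([89,2,4,72,80,96,64],64),([5,2,4,8,16,32],0)],
  [],
  [3], 7⟩

def s94 : St :=
 ⟨[([99,66,4,208,136,96,68,156,464],34),([9,2,4,8,80,224,64,192],0),([89,2,4,72,80,96,64],64),([5,2,4,8,16,32],0)],
  [([1,2,4,8,64,256],[1,2,12,4,330,74])],
  [3], 7⟩

def s95 : St :=
 ⟨[([99,66,4,208,136,96,68,156,468],34),([9,2,4,8,80,224,64,192],0),([89,2,4,72,80,96,64],64),([5,2,4,8,16,32],0)],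
  [([1,2,4,8,64,256],[1,2,12,4,330,74])],
  [3], 7⟩

def s96 : St :=
 ⟨[([33,66,4,136,208,32,68,216,268],32),([9,2,4,8,80,224,64,192],0),([89,2,4,72,80,96,64],64),([5,2,4,8,16,32],0)],
  [],
  [3], 7⟩

def s97 : St :=
 ⟨[([33,66,4,136,208,32,64,192,452],4),([9,2,4,8,80,224,64,192],0),([89,2,4,72,80,96,64],64),([5,2,4,8,16,32],0)],
  [],
  [3], 7⟩

def s98 : St :=
 ⟨[([33,66,4,136,208,32,64,192,452],0),([9,2,4,8,80,224,64,192],0),([89,2,4,72,80,96,64],64),([5,2,4,8,16,32],0)],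
  [],
  [3], 7⟩

def s99 : St :=
 ⟨[([33,66,4,136,208,32,64,192,448],4),([9,2,4,8,80,224,64,192],0),([89,2,4,72,80,96,64],64),([5,2,4,8,16,32],0)],
  [([1,2,4,8,64,256],[1,2,12,4,330,74])],
  [3], 7⟩

def s100 : St :=
 ⟨[([33,66,4,136,208,32,68,216,264],32),([9,2,4,8,80,224,64,192],0),([89,2,4,72,80,96,64],64),([5,2,4,8,16,32],0)],
  [([1,2,4,8,64,256],[1,2,12,4,330,74])],
  [3], 7⟩

def s101 : St :=
 ⟨[([33,66,4,136,208,32,68,216,264],36),([9,2,4,8,80,224,64,192],0),([89,2,4,72,80,96,64],64),([5,2,4,8,16,32],0)],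
  [([1,2,4,8,64,256],[1,2,12,4,330,74])],
  [3], 7⟩

def s102 : St :=
 ⟨[([99,66,4,208,136,96,64,128,256],68),([9,2,4,8,80,224,64,192],0),([89,2,4,72,80,96,64],64),([5,2,4,8,16,32],0)],
  [([1,2,4,8,64,256],[1,2,12,4,330,74])],
  [3], 7⟩

def s103 : St :=
 ⟨[([33,66,4,208,136,32,64,128,256],4),([9,2,4,8,80,224,64,192],0),([89,2,4,72,80,96,64],64),([5,2,4,8,16,32],0)],
  [([1,2,4,8,64,256],[1,2,12,4,330,74])],
  [3], 7⟩

def s104 : St :=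
 ⟨[([99,66,4,208,136,96,68,156,468],38),([9,2,4,8,80,224,64,192],0),([89,2,4,72,80,96,64],64),([5,2,4,8,16,32],0)],
  [([1,2,4,8,64,256],[1,2,12,4,330,74])],
  [3], 7⟩

def s105 : St :=
 ⟨[([33,66,4,208,136,32,68,156,468],36),([9,2,4,8,80,224,64,192],0),([89,2,4,72,80,96,64],64),([5,2,4,8,16,32],0)],
  [([1,2,4,8,64,256],[1,2,12,4,330,74])],
  [3], 7⟩

def s106 : St :=
 ⟨[([33,66,4,136,208,32,64,192,448],0),([9,2,4,8,80,224,64,192],0),([89,2,4,72,80,96,64],64),([5,2,4,8,16,32],0)],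
  [([1,2,4,8,64,256],[1,2,12,4,330,74])],
  [3], 7⟩

def s107 : St :=
 ⟨[([99,66,4,208,136,96,64,128,260],68),([9,2,4,8,80,224,64,192],0),([89,2,4,72,80,96,64],64),([5,2,4,8,16,32],0)],
  [([1,2,4,8,64,256],[1,2,12,4,330,74])],
  [3], 7⟩

def s108 : St :=
 ⟨[([9,2,4,8,80,224,64,192],0),([89,2,4,72,80,96,64],64),([5,2,4,8,16,32],0)],
  [([1,2,4,8,64,256],[1,2,12,4,330,74])],
  [3], 6⟩

def s109 : St :=
 ⟨[([5,2,4,8,16,32],0)],
  [([1,2,4,8],[1,2,12,4]),([1,6,4,16],[1,6,20,4]),([5,1,2,8,16,32],[1,5,6,20,8,60])],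
  [3], 7⟩

def s110 : St :=
 ⟨[],
  [([1,2,4,8],[1,2,12,4]),([1,6,4,16],[1,6,20,4]),([5,1,2,8,16,32],[1,5,6,20,8,60])],
  [3], 7⟩

def s111 : St :=
 ⟨[],
  [([1,2,4,8],[1,2,12,4]),([1,6,4,16],[1,6,20,4]),([5,1,2,8,16,32],[1,5,6,20,8,60])],
  [], 7⟩

def s112 : St :=
 ⟨[],
  [([1,2,4,8],[1,2,12,4]),([1,6,4,16],[1,6,20,4])],
  [4], 7⟩

end Cfsg.Agent.D8E.E2
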